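import Groth.Agent.H8.NH.Main
import Groth.Agent.S2696
import Groth.Agent.S4696
import Groth.Agent.S19858

set_option autoImplicit false
set_option linter.style.haveILetI false
set_option linter.unusedSectionVars false
set_option maxSynthPendingDepth 3
universe u
open TensorProduct IsLocalRing

namespace Groth.Agent.H8.NH

open Groth.Agent.Lib.Helper73.CplMap
attribute [local instance] cplAlgebra

section
variable (R S : Type u) [CommRing R] [CommRing S] [IsLocalRing R] [IsLocalRing S]
  [IsNoetherianRing R] [IsNoetherianRing S] [Algebra R S] [IsLocalHom (algebraMap R S)]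

set_option maxHeartbeats 1000000 in
set_option synthInstance.maxHeartbeats 200000 in
/-- changing the base of a tensor product with a finite field from `R` to its completion -/
theorem isNormalRing_tensor_cpl_left
    (k' : Type u) [Field k'] [Algebra (EGA4.Cpl R) k'] [Module.Finite (EGA4.Cpl R) k']
    [Algebra R k'] [IsScalarTower R (EGA4.Cpl R) k']
    (h : EGA4.IsNormalRing (k' ⊗[R] (EGA4.Cpl S))) :
    EGA4.IsNormalRing (k' ⊗[EGA4.Cpl R] (EGA4.Cpl S)) := by
  have hkill := maximalIdeal_le_ker_of_finite (EGA4.Cpl R) k'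
  have hmapker : ∀ x ∈ (maximalIdeal R).map (algebraMap R (EGA4.Cpl R)),
      algebraMap (EGA4.Cpl R) k' x = 0 := by
    intro x hx
    rw [← AdicCompletion.maximalIdeal_eq_map] at hx
    exact hkill hx
  have hM : ∀ i ∈ maximalIdeal R, ∀ m : k', i • m = 0 := by
    intro i hi m
    rw [Algebra.smul_def, IsScalarTower.algebraMap_apply R (EGA4.Cpl R) k',
      hmapker _ (Ideal.mem_map_of_mem _ hi), zero_mul]
  haveI hcomp : TensorProduct.CompatibleSMul R (EGA4.Cpl R) k' (EGA4.Cpl S) :=
    compatibleSMul_of_surjective_mod R (EGA4.Cpl R) (maximalIdeal R)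
      (exists_sub_mem_map_cpl R) k' (EGA4.Cpl S) hM
  let e : (k' ⊗[EGA4.Cpl R] (EGA4.Cpl S)) ≃ₐ[R] (k' ⊗[R] (EGA4.Cpl S)) :=
    Algebra.TensorProduct.equivOfCompatibleSMul R (EGA4.Cpl R) R k' (EGA4.Cpl S)
  exact Groth.Agent.H46.GeomNormalSep.isNormalRing_of_ringEquiv e.symm.toRingEquiv h

end


section main
variable (A B : Type u) [CommRing A] [CommRing B] [IsNoetherianRing A] [IsNoetherianRing B]
  [IsLocalRing A] [IsLocalRing B] [Algebra A B] [IsLocalHom (algebraMap A B)] [Module.Flat A B]
  [Module.Finite (ResidueField A) (ResidueField B)]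

set_option maxHeartbeats 1000000 in
set_option synthInstance.maxHeartbeats 200000 in
/-- **EGA IV 7.5.1, normal case, general form** -/
theorem isNormalHom_of_formalFibres (hA : EGA4.HasGeomNormalFormalFibres A)
    (h : EGA4.IsGeomNormal (maximalIdeal A).ResidueField
      ((maximalIdeal A).Fiber (EGA4.Cpl B))) :
    EGA4.IsNormalHom A B := by
  haveI : IsNoetherianRing (EGA4.Cpl A) := Groth.Agent.Lib.Helper29.isNoetherianRing_cpl A
  haveI : IsNoetherianRing (EGA4.Cpl B) := Groth.Agent.Lib.Helper29.isNoetherianRing_cpl B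
  have h1 : EGA4.IsNormalHom A (EGA4.Cpl A) := ⟨inferInstance, fun p _ => hA p⟩
  haveI : IsLocalHom (algebraMap (EGA4.Cpl A) (EGA4.Cpl B)) := isLocalHom_cplMap A B
  haveI : Module.Flat (EGA4.Cpl A) (EGA4.Cpl B) := flat_cpl A B
  haveI hfinA : Module.Finite A (ResidueField A) :=
    Module.Finite.of_surjective (Algebra.linearMap A (ResidueField A)) residue_surjective
  haveI : Module.Finite A (ResidueField B) := Module.Finite.trans (ResidueField A) _
  haveI : Module.Finite A (ResidueField (EGA4.Cpl B)) :=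
    Module.Finite.of_surjective
      (IsScalarTower.toAlgHom A (ResidueField B) (ResidueField (EGA4.Cpl B))).toLinearMap
      (AdicCompletion.residueField_map_bijective B).2
  haveI : Module.Finite (ResidueField (EGA4.Cpl A)) (ResidueField (EGA4.Cpl B)) :=
    Module.Finite.of_restrictScalars_finite A _ _
  have hcl : EGA4.IsGeomNormal (maximalIdeal (EGA4.Cpl A)).ResidueField
      ((maximalIdeal (EGA4.Cpl A)).Fiber (EGA4.Cpl B)) := by
    intro k' _ _ hfin
    letI : Algebra (EGA4.Cpl A) k' :=
      ((algebraMap (maximalIdeal (EGA4.Cpl A)).ResidueField k').comp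
        (algebraMap (EGA4.Cpl A) (maximalIdeal (EGA4.Cpl A)).ResidueField)).toAlgebra
    haveI : IsScalarTower (EGA4.Cpl A) (maximalIdeal (EGA4.Cpl A)).ResidueField k' :=
      IsScalarTower.of_algebraMap_eq (fun _ => rfl)
    haveI : Module.Finite (EGA4.Cpl A) k' :=
      Module.Finite.trans (maximalIdeal (EGA4.Cpl A)).ResidueField k'
    letI : Algebra A k' :=
      ((algebraMap (EGA4.Cpl A) k').comp (algebraMap A (EGA4.Cpl A))).toAlgebra
    haveI : IsScalarTower A (EGA4.Cpl A) k' := IsScalarTower.of_algebraMap_eq (fun _ => rfl)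
    have hk : maximalIdeal A ≤ RingHom.ker (algebraMap A k') := by
      intro a ha
      rw [RingHom.mem_ker, IsScalarTower.algebraMap_apply A (EGA4.Cpl A) k']
      apply maximalIdeal_le_ker_of_finite (EGA4.Cpl A) k'
      rw [AdicCompletion.maximalIdeal_eq_map]
      exact Ideal.mem_map_of_mem _ ha
    have h2 := isNormalRing_tensor_of_isGeomNormal_fiber A (EGA4.Cpl B) (maximalIdeal A) h k' hk
    have h3 := isNormalRing_tensor_cpl_left A B k' h2
    exact Groth.Agent.H8.NormalHomLoc.isNormalRing_fiber_of_tensor (EGA4.Cpl A)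
      (maximalIdeal (EGA4.Cpl A)) (EGA4.Cpl B) k' h3
  have h2 : EGA4.IsNormalHom (EGA4.Cpl A) (EGA4.Cpl B) :=
    Groth.Agent.S2696.result (EGA4.Cpl A) (EGA4.Cpl B) hcl
  have h3 : EGA4.IsNormalHom A (EGA4.Cpl B) :=
    Groth.Agent.S4696.result A (EGA4.Cpl A) (EGA4.Cpl B) h1 h2
  haveI : Module.FaithfullyFlat B (EGA4.Cpl B) := Groth.Agent.Lib.Helper29.faithfullyFlat_cpl B
  exact Groth.Agent.S19858.result A B (EGA4.Cpl B) h3

end main

end Groth.Agent.H8.NH
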